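import Mathlib

/-!
Finite presentation of degree-zero localisations of finitely presented graded algebras.
-/

set_option autoImplicit false
set_option linter.style.haveILetI false

universe u

open DirectSum HomogeneousLocalization

noncomputable section

namespace Groth.Agent.RelFPProj

/-- A module which is a retract of a finite algebra of finite presentation is finitely presented. -/
theorem finitePresentation_of_retract {B C M : Type u} [CommRing B] [CommRing C] [Algebra B C]
    [Algebra.FinitePresentation B C] [Module.Finite B C] [AddCommGroup M] [Module B M]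
    (i : M →ₗ[B] C) (r : C →ₗ[B] M) (h : ∀ m, r (i m) = m) : Module.FinitePresentation B M := by
  haveI : Module.FinitePresentation B C :=
    Module.FinitePresentation.of_finite_of_finitePresentation (R := B) (S := C)
  refine Module.finitePresentation_of_surjective r (fun m => ⟨i m, h m⟩) ?_
  have hk : LinearMap.ker r = LinearMap.range (LinearMap.id - i ∘ₗ r) := by
    apply le_antisymm
    · intro c hc
      rw [LinearMap.mem_ker] at hc
      exact ⟨c, by simp [hc]⟩
    · rintro _ ⟨c, rfl⟩
      simp [h]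
  rw [hk, ← Submodule.map_top]
  exact Module.Finite.fg_top.map _

/-- A finite type subalgebra which is a direct summand of a finite algebra of finite presentation is
of finite presentation. -/
theorem algebraFinitePresentation_of_retract {R B C : Type u} [CommRing R] [CommRing B] [CommRing C]
    [Algebra R B] [Algebra B C] [Algebra R C] [IsScalarTower R B C]
    [Algebra.FiniteType R B] [Algebra.FinitePresentation R C] [Module.Finite B C]
    (r : C →ₗ[B] B) (h : ∀ b, r (algebraMap B C b) = b) : Algebra.FinitePresentation R B := by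
  obtain ⟨n, π, hπ⟩ := Algebra.FiniteType.iff_quotient_mvPolynomial''.mp ‹Algebra.FiniteType R B›
  letI : Algebra (MvPolynomial (Fin n) R) B := π.toRingHom.toAlgebra
  haveI : IsScalarTower R (MvPolynomial (Fin n) R) B :=
    IsScalarTower.of_algebraMap_eq fun x => (π.commutes x).symm
  letI : Algebra (MvPolynomial (Fin n) R) C := ((algebraMap B C).comp π.toRingHom).toAlgebra
  haveI : IsScalarTower (MvPolynomial (Fin n) R) B C := IsScalarTower.of_algebraMap_eq fun _ => rfl
  haveI : IsScalarTower R (MvPolynomial (Fin n) R) C := IsScalarTower.of_algebraMap_eq fun x => by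
    change algebraMap R C x = algebraMap B C (π (algebraMap R _ x))
    rw [π.commutes, ← IsScalarTower.algebraMap_apply]
  haveI : Module.Finite (MvPolynomial (Fin n) R) B :=
    Module.Finite.of_surjective (Algebra.linearMap (MvPolynomial (Fin n) R) B) hπ
  haveI : Module.Finite (MvPolynomial (Fin n) R) C := Module.Finite.trans B C
  haveI : Algebra.FinitePresentation (MvPolynomial (Fin n) R) C :=
    Algebra.FinitePresentation.of_restrict_scalars_finitePresentation R _ C
  have := finitePresentation_of_retract ((Algebra.linearMap B C).restrictScalars (MvPolynomial (Fin n) R))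
    (r.restrictScalars (MvPolynomial (Fin n) R)) h
  exact Algebra.FinitePresentation.of_surjective hπ
    (Module.FinitePresentation.fg_ker (Algebra.linearMap (MvPolynomial (Fin n) R) B) hπ)

section Graded

variable {A σ : Type u} [CommRing A] [SetLike σ A] [AddSubgroupClass σ A] (𝒜 : ℕ → σ)
  [GradedRing 𝒜] {f : A} {d : ℕ} (hf : f ∈ 𝒜 d) (n : ℤ)

/-- `A / (f - 1)`. -/
abbrev Dehom (f : A) : Type u := A ⧸ Ideal.span {f - 1}

lemma mk_self : Ideal.Quotient.mk (Ideal.span {f - 1}) f = 1 := by
  rw [← map_one (Ideal.Quotient.mk (Ideal.span {f - 1})), Ideal.Quotient.eq]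
  exact Ideal.subset_span rfl

/-- `A_f → A / (f - 1)`. -/
def toDehom (f : A) : Localization.Away f →+* Dehom f :=
  IsLocalization.Away.lift f (g := Ideal.Quotient.mk (Ideal.span {f - 1})) (by simp [mk_self])

lemma toDehom_mk (a : A) (k : ℕ) :
    toDehom f (Localization.mk a (⟨f ^ k, k, rfl⟩ : Submonoid.powers f)) =
      Ideal.Quotient.mk _ a := by
  rw [Localization.mk_eq_mk', toDehom, IsLocalization.Away.lift, IsLocalization.lift_mk'_spec]
  simp [mk_self]

/-- `A / (f - 1)` as an algebra over the degree zero part of `A_f`. -/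
instance awayDehomAlgebra : Algebra (Away 𝒜 f) (Dehom f) :=
  ((toDehom f).comp (algebraMap (Away 𝒜 f) (Localization.Away f))).toAlgebra

include hf in
lemma away_smul_mk {l : ℕ} {g : A} (hg : g ∈ 𝒜 (l • d)) (a : A) :
    Away.mk 𝒜 hf l g hg • (Ideal.Quotient.mk _ a : Dehom f) = Ideal.Quotient.mk _ (g * a) := by
  rw [Algebra.smul_def]
  change toDehom f (Localization.mk g _) * _ = _
  rw [toDehom_mk, ← map_mul]

/-- The components of degree `≡ n (mod d)`, divided into degree `n`. -/
def part (i : ℕ) : Localization.Away f :=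
  if (d : ℤ) ∣ (i : ℤ) - n then
    ((IsLocalization.Away.invSelf (S := Localization.Away f) f) ^ (((i : ℤ) - n) / d).toNat *
      algebraMap A (Localization.Away f) f ^ (-(((i : ℤ) - n) / d)).toNat)
  else 0

/-- `σ_n` on `A`. -/
def sigma₀ : A →+ Localization.Away f :=
  (DirectSum.toAddMonoid fun i => (AddMonoidHom.mulRight (part (f := f) (d := d) n i)).comp
    ((algebraMap A (Localization.Away f)).toAddMonoidHom.comp (AddSubmonoidClass.subtype (𝒜 i)))).comp
    (decomposeAddEquiv 𝒜).toAddMonoidHom

lemma sigma₀_of_mem {i : ℕ} {a : A} (ha : a ∈ 𝒜 i) :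
    sigma₀ 𝒜 (f := f) (d := d) n a = algebraMap A _ a * part (f := f) (d := d) n i := by
  change DirectSum.toAddMonoid _ (decompose 𝒜 a) = _
  rw [decompose_of_mem 𝒜 ha, DirectSum.toAddMonoid_of]
  rfl

omit [CommRing A] in
lemma aux_toNat (q : ℤ) (l : ℕ) :
    (l + q).toNat + (-q).toNat = l + q.toNat + (-(l + q)).toNat := by omega

include hf in
lemma sigma₀_mul (hd : 0 < d) {l : ℕ} {g : A} (hg : g ∈ 𝒜 (l • d)) (a : A) :
    sigma₀ 𝒜 (f := f) (d := d) n (g * a) =
      algebraMap (Away 𝒜 f) (Localization.Away f) (Away.mk 𝒜 hf l g hg) *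
        sigma₀ 𝒜 (f := f) (d := d) n a := by
  induction a using DirectSum.Decomposition.inductionOn 𝒜 with
  | zero => simp
  | add x y hx hy => rw [mul_add, map_add, hx, hy, map_add, mul_add]
  | @homogeneous i a =>
    rw [sigma₀_of_mem 𝒜 n (SetLike.mul_mem_graded hg a.2), sigma₀_of_mem 𝒜 n a.2, map_mul,
      HomogeneousLocalization.algebraMap_apply, Away.val_mk, Localization.mk_eq_mk',
      mul_assoc, mul_comm (IsLocalization.mk' _ g _)]
    have hd' : (d : ℤ) ≠ 0 := by omega
    have e : (((l • d + i : ℕ) : ℤ) - n) = (i - n) + l * d := by push_cast [smul_eq_mul]; ring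
    by_cases h : (d : ℤ) ∣ (i : ℤ) - n
    · have h' : (d : ℤ) ∣ ((l • d + i : ℕ) : ℤ) - n := by rw [e]; exact dvd_add h (dvd_mul_left _ _)
      have q : (((l • d + i : ℕ) : ℤ) - n) / d = l + ((i : ℤ) - n) / d := by
        rw [e, Int.add_mul_ediv_right _ _ hd', add_comm]
      rw [part, part, if_pos h, if_pos h', q]
      set u := algebraMap A (Localization.Away f) f
      set v := IsLocalization.Away.invSelf (S := Localization.Away f) f
      have huv : u * v = 1 := IsLocalization.Away.mul_invSelf f
      have hmk : IsLocalization.mk' (Localization.Away f) g (⟨f ^ l, l, rfl⟩ : Submonoid.powers f) =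
          algebraMap A _ g * v ^ l := by
        rw [IsLocalization.mk'_eq_iff_eq_mul, map_pow, mul_assoc, ← mul_pow, mul_comm v, huv,
          one_pow, mul_one]
      set a' := algebraMap A (Localization.Away f) a
      set g' := algebraMap A (Localization.Away f) g
      rw [hmk]
      generalize hQ : ((i : ℤ) - n) / d = Q
      have key : v ^ (l + Q).toNat * u ^ (-(l + Q)).toNat = v ^ l * (v ^ Q.toNat * u ^ (-Q).toNat) := by
        have h1 : ∀ x y x' y' : ℕ, x + y' = x' + y → v ^ x * u ^ y = v ^ x' * u ^ y' := by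
          intro x y x' y' hxy
          calc v ^ x * u ^ y = v ^ x * u ^ y * (u * v) ^ y' := by rw [huv, one_pow, mul_one]
            _ = v ^ (x + y') * u ^ y * u ^ y' := by ring
            _ = v ^ x' * u ^ y' * (u * v) ^ y := by rw [hxy]; ring
            _ = _ := by rw [huv, one_pow, mul_one]
        rw [← mul_assoc (v ^ l), ← pow_add]
        exact h1 _ _ _ _ (aux_toNat Q l)
      rw [key]
      ring
    · have h' : ¬ (d : ℤ) ∣ ((l • d + i : ℕ) : ℤ) - n := by
        rw [e]; exact fun hh => h ((dvd_add_left (dvd_mul_left _ _)).mp hh)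
      rw [part, part, if_neg h, if_neg h']
      simp

include hf in
lemma away_mk_self : Away.mk 𝒜 hf 1 f (by rw [one_smul]; exact hf) = 1 := by
  refine val_injective _ ?_
  rw [Away.val_mk, val_one]
  convert Localization.mk_self (⟨f, 1, pow_one f⟩ : Submonoid.powers f) using 2
  exact Subtype.ext (pow_one f)

include hf in
lemma sigma₀_vanish (hd : 0 < d) {x : A} (hx : x ∈ Ideal.span {f - 1}) :
    sigma₀ 𝒜 (f := f) (d := d) n x = 0 := by
  obtain ⟨a, rfl⟩ := Ideal.mem_span_singleton'.mp hx
  rw [mul_comm, sub_mul, one_mul, map_sub,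
    sigma₀_mul 𝒜 hf n hd (l := 1) (by rw [one_smul]; exact hf) a, away_mk_self, map_one, one_mul,
    sub_self]

/-- `σ_n` as a linear map `A / (f - 1) → A_f`. -/
def sigma (hd : 0 < d) : Dehom f →ₗ[Away 𝒜 f] Localization.Away f where
  toFun := QuotientAddGroup.lift (Ideal.span {f - 1}).toAddSubgroup (sigma₀ 𝒜 (f := f) (d := d) n)
    fun _ hx => sigma₀_vanish 𝒜 hf n hd hx
  map_add' := map_add _
  map_smul' b x := by
    obtain ⟨l, g, hg, rfl⟩ := Away.mk_surjective 𝒜 hf b
    obtain ⟨a, rfl⟩ := Ideal.Quotient.mk_surjective x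
    rw [away_smul_mk, RingHom.id_apply, Algebra.smul_def]
    exact sigma₀_mul 𝒜 hf n hd hg a

lemma sigma_mk (hd : 0 < d) (a : A) :
    sigma 𝒜 hf n hd (Ideal.Quotient.mk _ a) = sigma₀ 𝒜 (f := f) (d := d) n a := rfl

lemma sigma_of_mem (hd : 0 < d) {k i : ℕ} {a : A} (ha : a ∈ 𝒜 i)
    (hi : (i : ℤ) = ((k • d : ℕ) : ℤ) + n) :
    sigma 𝒜 hf n hd (Ideal.Quotient.mk _ a) = Localization.mk a (⟨f ^ k, k, rfl⟩ : Submonoid.powers f) := by
  have q : ((i : ℤ) - n) / d = k := by
    rw [hi, add_sub_cancel_right, smul_eq_mul, Nat.cast_mul,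
      Int.mul_ediv_cancel _ (by omega : (d : ℤ) ≠ 0)]
  rw [sigma_mk, sigma₀_of_mem 𝒜 n ha, part, if_pos (by
    rw [hi, add_sub_cancel_right, smul_eq_mul, Nat.cast_mul]; exact dvd_mul_left _ _), q]
  simp only [Int.toNat_natCast, Int.toNat_neg_natCast, pow_zero, mul_one]
  rw [Localization.mk_eq_mk', eq_comm, IsLocalization.mk'_eq_iff_eq_mul, map_pow, mul_assoc,
    ← mul_pow, mul_comm (IsLocalization.Away.invSelf _) (algebraMap A _ f),
    IsLocalization.Away.mul_invSelf, one_pow, mul_one]

lemma toDehom_smul (b : Away 𝒜 f) (x : Localization.Away f) :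
    toDehom f (b • x) = b • toDehom f x := by
  rw [Algebra.smul_def, Algebra.smul_def, map_mul]; rfl

/-- `A_f → A / (f - 1)` as a linear map. -/
def toDehomₗ (f : A) : Localization.Away f →ₗ[Away 𝒜 f] Dehom f where
  toFun := toDehom f
  map_add' := map_add _
  map_smul' := toDehom_smul 𝒜

include hf in
/-- `σ_n` fixes its image. -/
lemma sigma_toDehom (hd : 0 < d) (x : Dehom f) :
    sigma 𝒜 hf n hd (toDehom f (sigma 𝒜 hf n hd x)) = sigma 𝒜 hf n hd x := by
  obtain ⟨a, rfl⟩ := Ideal.Quotient.mk_surjective x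
  induction a using DirectSum.Decomposition.inductionOn 𝒜 with
  | zero => simp
  | add x y hx hy => simp only [map_add, hx, hy]
  | @homogeneous i a =>
    by_cases h : (d : ℤ) ∣ (i : ℤ) - n
    · obtain ⟨q, hq⟩ := h
      let k : ℕ := q.toNat
      have hfk : f ^ (-q).toNat * (a : A) ∈ 𝒜 ((-q).toNat • d + i) :=
        SetLike.mul_mem_graded (SetLike.pow_mem_graded _ hf) a.2
      have hi : ((((-q).toNat • d + i : ℕ)) : ℤ) = ((k • d : ℕ) : ℤ) + n := by
        push_cast [smul_eq_mul]
        have e : (q.toNat : ℤ) = (-q).toNat + q := by omega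
        rw [show (k : ℤ) = (-q).toNat + q from e, add_mul]
        linarith [mul_comm (d : ℤ) q]
      have heq : (Ideal.Quotient.mk _ (a : A) : Dehom f) =
          Ideal.Quotient.mk _ (f ^ (-q).toNat * (a : A)) := by
        rw [map_mul, map_pow, mk_self, one_pow, one_mul]
      rw [heq, sigma_of_mem 𝒜 hf n hd hfk hi, toDehom_mk, sigma_of_mem 𝒜 hf n hd hfk hi]
    · rw [sigma_mk, sigma₀_of_mem 𝒜 n a.2, part, if_neg h]
      simp

/-- The sections of degree `n` on `D₊(f)`. -/
abbrev DegPart (hd : 0 < d) : Submodule (Away 𝒜 f) (Localization.Away f) :=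
  LinearMap.range (sigma 𝒜 hf n hd)

include hf in
/-- `A / (f - 1)` is finite over the degree zero part of `A_f`, for `A` of finite type. -/
theorem finite_dehom (hd : 0 < d) [Algebra.FiniteType (Away 𝒜 f) (Dehom f)] :
    Module.Finite (Away 𝒜 f) (Dehom f) := by
  haveI : Algebra.IsIntegral (Away 𝒜 f) (Dehom f) := by
    refine ⟨fun x => ?_⟩
    obtain ⟨a, rfl⟩ := Ideal.Quotient.mk_surjective x
    induction a using DirectSum.Decomposition.inductionOn 𝒜 with
    | zero => rw [map_zero]; exact isIntegral_zero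
    | add x y hx hy => rw [map_add]; exact hx.add hy
    | @homogeneous i a =>
      refine IsIntegral.of_pow hd ?_
      have h : (a : A) ^ d ∈ 𝒜 (i • d) := by
        rw [smul_eq_mul, mul_comm]; exact SetLike.pow_mem_graded d a.2
      have := away_smul_mk 𝒜 hf h (1 : A)
      rw [Algebra.smul_def, map_one, mul_one, mul_one, map_pow] at this
      rw [← this]
      exact isIntegral_algebraMap
  exact Algebra.IsIntegral.finite

variable {R : Type u} [CommRing R] (φ : R →+* 𝒜 0)
  (hfp : (((algebraMap (𝒜 0) A)).comp φ).FinitePresentation)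

include hf hfp

/-- The four finiteness facts on `D₊(f)`. -/
theorem finite_facts (hd : 0 < d) :
    (((fromZeroRingHom 𝒜 (Submonoid.powers f)).comp φ).FinitePresentation) ∧
      Module.FinitePresentation (Away 𝒜 f) (DegPart 𝒜 hf n hd) := by
  letI : Algebra R (𝒜 0) := φ.toAlgebra
  letI : Algebra R A := ((algebraMap (𝒜 0) A).comp φ).toAlgebra
  haveI : IsScalarTower R (𝒜 0) A := IsScalarTower.of_algebraMap_eq fun _ => rfl
  haveI : Algebra.FinitePresentation R A := hfp
  haveI : Algebra.FiniteType (𝒜 0) A := Algebra.FiniteType.of_restrictScalars_finiteType R _ _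
  haveI : Algebra.FiniteType R (𝒜 0) :=
    Algebra.FiniteType.of_surjective
      ({ toRingHom := GradedRing.projZeroRingHom' 𝒜
         commutes' := fun r => GradedRing.projZeroRingHom'_apply_coe 𝒜 (φ r) } : A →ₐ[R] 𝒜 0)
      (GradedRing.projZeroRingHom'_surjective 𝒜)
  haveI := HomogeneousLocalization.Away.finiteType (𝒜 := 𝒜) f d hf
  letI : Algebra R (Away 𝒜 f) := ((fromZeroRingHom 𝒜 (Submonoid.powers f)).comp φ).toAlgebra
  haveI : IsScalarTower R (𝒜 0) (Away 𝒜 f) := IsScalarTower.of_algebraMap_eq fun _ => rfl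
  haveI : Algebra.FiniteType R (Away 𝒜 f) := Algebra.FiniteType.trans (S := 𝒜 0) ‹_› ‹_›
  haveI : IsScalarTower R (Away 𝒜 f) (Dehom f) := IsScalarTower.of_algebraMap_eq fun r => by
    change Ideal.Quotient.mk _ (φ r : A) = toDehom f (Localization.mk (φ r : A) _)
    exact (toDehom_mk (φ r : A) 0).symm.trans (by congr 2; exact Subtype.ext (pow_zero f))
  haveI : Algebra.FinitePresentation R (Dehom f) :=
    Algebra.FinitePresentation.quotient ⟨{f - 1}, by simp⟩
  haveI : Algebra.FiniteType (Away 𝒜 f) (Dehom f) :=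
    Algebra.FiniteType.of_restrictScalars_finiteType R _ _
  haveI := finite_dehom 𝒜 hf hd
  have hrange : ∀ x : Dehom f, ∃ b : Away 𝒜 f, algebraMap _ _ b = sigma 𝒜 hf 0 hd x := by
    intro x
    obtain ⟨a, rfl⟩ := Ideal.Quotient.mk_surjective x
    induction a using DirectSum.Decomposition.inductionOn 𝒜 with
    | zero => exact ⟨0, by simp⟩
    | add x y hx hy =>
      obtain ⟨b, hb⟩ := hx
      obtain ⟨c, hc⟩ := hy
      exact ⟨b + c, by simp [map_add, hb, hc]⟩
    | @homogeneous i a =>
      by_cases h : (d : ℤ) ∣ (i : ℤ) - 0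
      · rw [sub_zero, Int.natCast_dvd_natCast] at h
        obtain ⟨k, rfl⟩ := h
        refine ⟨Away.mk 𝒜 hf k a (by rw [smul_eq_mul, mul_comm]; exact a.2), ?_⟩
        rw [sigma_of_mem 𝒜 hf 0 hd a.2 (k := k) (by push_cast [smul_eq_mul]; ring),
          HomogeneousLocalization.algebraMap_apply, Away.val_mk]
      · exact ⟨0, by rw [map_zero, sigma_mk, sigma₀_of_mem 𝒜 0 a.2, part, if_neg h, mul_zero]⟩
  have hinj : Function.Injective (algebraMap (Away 𝒜 f) (Localization.Away f)) :=
    HomogeneousLocalization.val_injective _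
  choose ρ hρ using hrange
  let ρₗ : Dehom f →ₗ[Away 𝒜 f] Away 𝒜 f :=
    { toFun := ρ
      map_add' := fun x y => hinj (by rw [map_add, hρ, hρ, hρ, map_add])
      map_smul' := fun b x => hinj (by
        rw [hρ, RingHom.id_apply, smul_eq_mul, map_mul, hρ, map_smul, Algebra.smul_def]) }
  have hρ' : ∀ b, ρₗ (algebraMap _ _ b) = b := by
    intro b
    refine hinj ((hρ _).trans ?_)
    obtain ⟨k, a, ha, rfl⟩ := Away.mk_surjective 𝒜 hf b
    rw [HomogeneousLocalization.algebraMap_apply, Away.val_mk]
    exact (congrArg (sigma 𝒜 hf 0 hd) (toDehom_mk a k)).trans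
      (sigma_of_mem 𝒜 hf 0 hd ha (by simp))
  haveI hB : Algebra.FinitePresentation R (Away 𝒜 f) :=
    algebraFinitePresentation_of_retract ρₗ hρ'
  haveI : Algebra.FinitePresentation (Away 𝒜 f) (Dehom f) :=
    Algebra.FinitePresentation.of_restrict_scalars_finitePresentation R _ _
  exact ⟨hB, finitePresentation_of_retract ((toDehomₗ 𝒜 f).comp (Submodule.subtype _))
    (sigma 𝒜 hf n hd).rangeRestrict fun ⟨y, x, hx⟩ =>
      Subtype.ext (by subst hx; exact sigma_toDehom 𝒜 hf n hd x)⟩

end Graded

end Groth.Agent.RelFPProj
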