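import Groth.Agent.RelFPProj.Alg
import Groth.Agent.RelTilde.Local
import Groth.Agent.RelTilde.SectLift
import Groth.Agent.RelTilde.Cast
import Groth.Agent.QC.FiniteType

/-!
A relative Proj of a finitely presented graded algebra is of finite presentation.
-/

set_option autoImplicit false
set_option backward.isDefEq.respectTransparency false
set_option linter.style.haveILetI false

universe u

open CategoryTheory CategoryTheory.Limits AlgebraicGeometry TopologicalSpace Opposite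
  HomogeneousLocalization
open scoped HomogeneousIdeal

noncomputable section

namespace Groth.Agent.RelFPProj

open Groth.Agent.RelTilde

section Proj

variable {A σ : Type u} [CommRing A] [SetLike σ A] [AddSubgroupClass σ A] (𝒜 : ℕ → σ)
  [GradedRing 𝒜] {R : CommRingCat.{u}} (φ : R ⟶ CommRingCat.of (𝒜 0))
  (hfp : ((algebraMap (𝒜 0) A).comp φ.hom).FinitePresentation)

include hfp

theorem locallyOfFinitePresentation_toBase :
    LocallyOfFinitePresentation (Proj.toSpecZero 𝒜 ≫ Spec.map φ) := by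
  choose d f hd hf hfx using fun x : ProjectiveSpectrum 𝒜 => exists_pos_homog 𝒜 x
  rw [IsZariskiLocalAtSource.iff_of_iSup_eq_top (P := @LocallyOfFinitePresentation)
    (fun x : ProjectiveSpectrum 𝒜 => Proj.basicOpen 𝒜 (f x)) (by
      rw [eq_top_iff]
      exact fun x _ => Opens.mem_iSup.mpr ⟨x, (ProjectiveSpectrum.mem_basicOpen 𝒜 _ x).mpr (hfx x)⟩)]
  intro x
  rw [← MorphismProperty.cancel_left_of_respectsIso (P := @LocallyOfFinitePresentation)
    (Proj.basicOpenIsoSpec 𝒜 (f x) (hf x) (hd x)).inv, ← Category.assoc, ← Proj.awayι,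
    ← Category.assoc, Proj.awayι_toSpecZero, ← Spec.map_comp,
    HasRingHomProperty.Spec_iff (P := @LocallyOfFinitePresentation)]
  exact (finite_facts 𝒜 (hf x) 0 φ.hom hfp (hd x)).1

theorem quasiCompact_toBase : QuasiCompact (Proj.toSpecZero 𝒜 ≫ Spec.map φ) := by
  letI : Algebra R (𝒜 0) := φ.hom.toAlgebra
  letI : Algebra R A := ((algebraMap (𝒜 0) A).comp φ.hom).toAlgebra
  haveI : IsScalarTower R (𝒜 0) A := IsScalarTower.of_algebraMap_eq fun _ => rfl
  haveI : Algebra.FinitePresentation R A := hfp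
  haveI : Algebra.FiniteType (𝒜 0) A := Algebra.FiniteType.of_restrictScalars_finiteType R _ _
  infer_instance

set_option maxHeartbeats 800000 in
/-- Sections of `O(n)` on `D₊(f)` are finitely presented over the functions. -/
theorem finitePresentation_sections (n : ℤ) {f : A} {d : ℕ} (hd : 0 < d) (hf : f ∈ 𝒜 d) :
    Module.FinitePresentation Γ(Proj 𝒜, Proj.basicOpen 𝒜 f)
      Γ(GrMod.tilde 𝒜 𝒜 n, Proj.basicOpen 𝒜 f) := by
  haveI := (finite_facts 𝒜 hf n φ.hom hfp hd).2
  let e₀ : Away 𝒜 f ≃+* Γ(Proj 𝒜, Proj.basicOpen 𝒜 f) :=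
    RingEquiv.ofBijective (Proj.awayToSection 𝒜 f).hom (ProjLib.awayToSection_bijective 𝒜 hf hd)
  letI : Algebra (Away 𝒜 f) Γ(Proj 𝒜, Proj.basicOpen 𝒜 f) :=
    (Proj.awayToSection 𝒜 f).hom.toAlgebra
  letI : Module Γ(Proj 𝒜, Proj.basicOpen 𝒜 f) (DegPart 𝒜 hf n hd) :=
    Module.compHom _ e₀.symm.toRingHom
  haveI : IsScalarTower (Away 𝒜 f) Γ(Proj 𝒜, Proj.basicOpen 𝒜 f) (DegPart 𝒜 hf n hd) :=
    IsScalarTower.of_algebraMap_smul fun b y =>
      congrArg (fun c : Away 𝒜 f => c • y) (e₀.symm_apply_apply b)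
  haveI : Algebra.FinitePresentation (Away 𝒜 f) Γ(Proj 𝒜, Proj.basicOpen 𝒜 f) := by
    refine Algebra.FinitePresentation.equiv
      (AlgEquiv.ofRingEquiv (f := e₀) fun x => rfl : Away 𝒜 f ≃ₐ[Away 𝒜 f] _)
  have hsmul : ∀ {l : ℕ} {g : A} (hg : g ∈ 𝒜 (l • d)) (y : DegPart 𝒜 hf n hd),
      RelTilde.away 𝒜 hf l hg • y = Away.mk 𝒜 hf l g hg • y := fun hg y =>
    congrArg (fun c : Away 𝒜 f => c • y) (e₀.symm_apply_apply _)
  let G : A →+ DegPart 𝒜 hf n hd := (sigma 𝒜 hf n hd).rangeRestrict.toAddMonoidHom.comp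
    (Ideal.Quotient.mk (Ideal.span {f - 1})).toAddMonoidHom
  obtain ⟨F, hF⟩ := RelTilde.exists_lift 𝒜 𝒜 hf n hd G fun l g hg k i m _ _ => by
    rw [hsmul]
    refine Eq.trans ?_ (map_smul (sigma 𝒜 hf n hd).rangeRestrict _ _)
    exact congrArg (sigma 𝒜 hf n hd).rangeRestrict (away_smul_mk 𝒜 hf hg m).symm
  have hFb : Function.Bijective F := by
    constructor
    · refine (injective_iff_map_eq_zero F).mpr fun s hs => ?_
      obtain ⟨k, i, m, hm, hi, rfl⟩ := RelTilde.exists_sec 𝒜 𝒜 hf n hd s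
      rw [hF k i m hm hi] at hs
      have h1 : Localization.mk m (⟨f ^ k, k, rfl⟩ : Submonoid.powers f) = 0 :=
        (sigma_of_mem 𝒜 hf n hd hm hi).symm.trans (congrArg Subtype.val hs)
      rw [Localization.mk_eq_mk', IsLocalization.mk'_eq_zero_iff] at h1
      obtain ⟨⟨_, N, rfl⟩, hN⟩ := h1
      refine RelTilde.pt_ext 𝒜 𝒜 fun y => ?_
      rw [RelTilde.pt_sec]
      refine Eq.trans ((RelTilde.fr_eq_zero_iff 𝒜 y.1 _).mpr
        ⟨f ^ N, RelTilde.not_mem_pow 𝒜 ((ProjectiveSpectrum.mem_basicOpen 𝒜 f y.1).mp y.2) N, hN⟩) ?_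
      rfl
    · suffices h : ∀ a : A, G a ∈ LinearMap.range F by
        rintro ⟨y, x, rfl⟩
        obtain ⟨a, rfl⟩ := Ideal.Quotient.mk_surjective x
        obtain ⟨s, hs⟩ := h a
        exact ⟨s, hs⟩
      intro a
      induction a using DirectSum.Decomposition.inductionOn 𝒜 with
      | zero => rw [map_zero]; exact zero_mem _
      | add x y hx hy => rw [map_add]; exact add_mem hx hy
      | @homogeneous i a =>
        by_cases h : (d : ℤ) ∣ (i : ℤ) - n
        · obtain ⟨q, hq⟩ := h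
          have hfk : f ^ (-q).toNat * (a : A) ∈ 𝒜 ((-q).toNat • d + i) :=
            SetLike.mul_mem_graded (SetLike.pow_mem_graded _ hf) a.2
          have hi : ((((-q).toNat • d + i : ℕ)) : ℤ) = ((q.toNat • d : ℕ) : ℤ) + n := by
            push_cast [smul_eq_mul]
            have e : (q.toNat : ℤ) = (-q).toNat + q := by omega
            rw [e, add_mul]
            linarith [mul_comm (d : ℤ) q]
          refine ⟨RelTilde.sec 𝒜 𝒜 hf n hfk hi, (hF _ _ _ hfk hi).trans ?_⟩
          refine congrArg (sigma 𝒜 hf n hd).rangeRestrict ?_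
          change Ideal.Quotient.mk (Ideal.span {f - 1}) (f ^ (-q).toNat * (a : A)) = _
          rw [map_mul, map_pow, mk_self, one_pow, one_mul]
          rfl
        · have h0 : G a = 0 := Subtype.ext (by
            change sigma 𝒜 hf n hd (Ideal.Quotient.mk _ (a : A)) = 0
            rw [sigma_mk, sigma₀_of_mem 𝒜 n a.2, part, if_neg h, mul_zero])
          rw [h0]
          exact zero_mem _
  haveI : Module.FinitePresentation Γ(Proj 𝒜, Proj.basicOpen 𝒜 f) (DegPart 𝒜 hf n hd) := by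
    refine FinitePresentation.of_isBaseChange (R := Away 𝒜 f) LinearMap.id ?_
    refine IsBaseChange.of_lift_unique _ fun Q _ _ _ _ g => ?_
    refine ⟨{ toFun := g, map_add' := map_add g, map_smul' := fun c y => ?_ },
      LinearMap.ext fun _ => rfl, fun g' hg' => LinearMap.ext fun y => DFunLike.congr_fun hg' y⟩
    obtain ⟨b, rfl⟩ := (ProjLib.awayToSection_bijective 𝒜 hf hd).2 c
    change g (algebraMap (Away 𝒜 f) Γ(Proj 𝒜, Proj.basicOpen 𝒜 f) b • y) =
      algebraMap (Away 𝒜 f) Γ(Proj 𝒜, Proj.basicOpen 𝒜 f) b • g y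
    rw [algebraMap_smul, algebraMap_smul, map_smul]
  exact Module.FinitePresentation.of_equiv (LinearEquiv.ofBijective F hFb).symm

theorem isFP_twist (n : ℤ) : CohB1.IsFP (GrTwist.twist 𝒜 n) := by
  haveI : (GrMod.tilde 𝒜 𝒜 n).IsQuasicoherent := RelTilde.isQCoh_tilde 𝒜 𝒜 n
  change CohB1.IsFP (GrMod.tilde 𝒜 𝒜 n)
  refine QC.isFP_iff_exists_hasFinPres.mpr fun x => ?_
  obtain ⟨d, f, hd, hf, hfx⟩ := exists_pos_homog 𝒜 x
  haveI := finitePresentation_sections 𝒜 φ hfp n hd hf
  exact ⟨Proj.basicOpen 𝒜 f, (ProjectiveSpectrum.mem_basicOpen 𝒜 f x).mpr hfx,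
    QC.hasFinPres_of_finitePresentation (Proj.isAffineOpen_basicOpen 𝒜 f hf hd)⟩

end Proj

/-- Finite presentation passes along isomorphisms. -/
theorem isFP_of_iso {X : Scheme.{u}} {M N : X.Modules} (e : M ≅ N) (h : CohB1.IsFP M) :
    CohB1.IsFP N :=
  QC.isFP_iff_exists_hasFinPres.mpr fun x => by
    obtain ⟨U, hU, P, hP⟩ := QC.isFP_iff_exists_hasFinPres.mp h x
    haveI := hP
    exact ⟨U, hU, SheafOfModules.Presentation.ofIsIso.{u}
      ((Scheme.Modules.restrictFunctor U.ι).mapIso e).hom P, inferInstance⟩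

end Groth.Agent.RelFPProj
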